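import Mathlib
import Cfsg.Agent.Lib.Spor.Cos.Words

/-!
Square matrices of residues packed into one number, sixteen bits to an entry, multiplied by one product of numbers
for each column; reductions are proposed by any function and checked.
-/

set_option autoImplicit false

open Cfsg.Agent.Spor.Cos

namespace Cfsg.Agent.Grp.ModMat

/-- Digit `k` of a number in base `2 ^ b`. -/
def fieldAt (b X k : ℕ) : ℕ := X / (2 ^ b) ^ k % 2 ^ b

/-- Copies of a block side by side. -/
noncomputable def blocks (b c k : ℕ) : ℕ :=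
  Nat.rec (motive := fun _ => ℕ) 0 (fun _ r => force r fun q => Nat.add c (Nat.mul (Nat.pow 2 b) q)) k

theorem fieldAt_lt (b X k : ℕ) : fieldAt b X k < 2 ^ b := Nat.mod_lt _ (Nat.two_pow_pos b)

theorem sum_field_lt {b : ℕ} : ∀ (L : ℕ) (a : ℕ → ℕ), (∀ k < L, a k < 2 ^ b) →
    ∑ k ∈ Finset.range L, a k * (2 ^ b) ^ k < (2 ^ b) ^ L
  | 0, _, _ => by simp
  | L + 1, a, h => by
    rw [Finset.sum_range_succ, pow_succ]
    have h1 := sum_field_lt L a fun k hk => h k (Nat.lt_succ_of_lt hk)
    have h2 : a L + 1 ≤ 2 ^ b := h L (Nat.lt_succ_self L)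
    have h3 := Nat.mul_le_mul_right ((2 ^ b) ^ L) h2
    rw [add_mul, one_mul, mul_comm (2 ^ b) ((2 ^ b) ^ L)] at h3
    omega

theorem fieldAt_sum {b : ℕ} : ∀ (L : ℕ) (a : ℕ → ℕ), (∀ k < L, a k < 2 ^ b) → ∀ k < L,
    fieldAt b (∑ i ∈ Finset.range L, a i * (2 ^ b) ^ i) k = a k
  | 0, _, _, _, hk => absurd hk (Nat.not_lt_zero _)
  | L + 1, a, h, k, hk => by
    have hL := fun i (hi : i < L) => h i (Nat.lt_succ_of_lt hi)
    rw [Finset.sum_range_succ]
    rcases Nat.lt_or_eq_of_le (Nat.le_of_lt_succ hk) with hlt | rfl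
    · have e : a L * (2 ^ b) ^ L = (2 ^ b) ^ k * (2 ^ b * (a L * (2 ^ b) ^ (L - k - 1))) := by
        rw [← mul_assoc, ← pow_succ, mul_left_comm, ← pow_add]
        congr 2
        omega
      rw [fieldAt, e, Nat.add_mul_div_left _ _ (pow_pos (Nat.two_pow_pos b) k), Nat.add_mul_mod_self_left]
      exact fieldAt_sum L a hL k hlt
    · rw [fieldAt, mul_comm (a k), Nat.add_mul_div_left _ _ (pow_pos (Nat.two_pow_pos b) k),
        Nat.div_eq_of_lt (sum_field_lt k a hL), zero_add, Nat.mod_eq_of_lt (h k (Nat.lt_succ_self k))]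

theorem eq_sum_field {b : ℕ} : ∀ (L X : ℕ), X < (2 ^ b) ^ L →
    X = ∑ k ∈ Finset.range L, fieldAt b X k * (2 ^ b) ^ k
  | 0, X, h => by simpa using h
  | L + 1, X, h => by
    have hq : X / 2 ^ b < (2 ^ b) ^ L := Nat.div_lt_of_lt_mul (by rw [← pow_succ']; exact h)
    have ih := eq_sum_field L (X / 2 ^ b) hq
    have hd : ∀ k, fieldAt b (X / 2 ^ b) k = fieldAt b X (k + 1) := fun k => by
      rw [fieldAt, fieldAt, Nat.div_div_eq_div_mul, ← pow_succ']
    simp only [hd] at ih
    rw [Finset.sum_range_succ']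
    simp only [fieldAt, pow_zero, Nat.div_one, mul_one]
    conv_lhs => rw [← Nat.div_add_mod X (2 ^ b), ih, Finset.mul_sum]
    simp only [fieldAt, pow_succ']
    congr 1
    exact Finset.sum_congr rfl fun k _ => by ring

theorem blocks_eq (b c : ℕ) : ∀ k, blocks b c k = ∑ i ∈ Finset.range k, c * (2 ^ b) ^ i
  | 0 => by simp [blocks]
  | k + 1 => by
    have h : blocks b c (k + 1) = c + 2 ^ b * blocks b c k := by simp only [blocks, force_eq]; rfl
    rw [h, blocks_eq b c k, Finset.sum_range_succ', pow_zero, mul_one, add_comm, Finset.mul_sum]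
    exact congrArg (· + c) (Finset.sum_congr rfl fun i _ => by ring)

theorem fieldAt_land {b : ℕ} (X Y k : ℕ) : fieldAt b (X &&& Y) k = fieldAt b X k &&& fieldAt b Y k := by
  simp only [fieldAt, ← pow_mul, ← Nat.shiftRight_eq_div_pow, ← Nat.and_two_pow_sub_one_eq_mod,
    Nat.shiftRight_and_distrib]
  rw [Nat.and_assoc, Nat.and_assoc, Nat.and_left_comm (2 ^ b - 1), Nat.and_self]

theorem testBit_fieldAt (b X k t : ℕ) : (fieldAt b X k).testBit t = (decide (t < b) && X.testBit (b * k + t)) := by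
  rw [fieldAt, ← pow_mul, Nat.testBit_mod_two_pow, Nat.testBit_div_two_pow, add_comm]

/-- The entry in row `r` and column `j` of a packed `n` by `n` matrix. -/
def entryAt (n X r j : ℕ) : ℕ := fieldAt 16 (fieldAt (16 * n) X r) j

/-- A number with the given entries. -/
def packAll (n : ℕ) (f : ℕ → ℕ → ℕ) : ℕ :=
  ∑ r ∈ Finset.range n, (∑ j ∈ Finset.range n, f r j * (2 ^ 16) ^ j) * (2 ^ (16 * n)) ^ r

theorem rowSum_lt {n : ℕ} {f : ℕ → ℕ} (h : ∀ j < n, f j < 2 ^ 16) :
    ∑ j ∈ Finset.range n, f j * (2 ^ 16) ^ j < 2 ^ (16 * n) := by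
  rw [pow_mul]
  exact sum_field_lt n f h

theorem entry_packAll {n : ℕ} {f : ℕ → ℕ → ℕ} (h : ∀ r < n, ∀ j < n, f r j < 2 ^ 16) {r j : ℕ} (hr : r < n)
    (hj : j < n) : entryAt n (packAll n f) r j = f r j := by
  rw [entryAt, packAll, fieldAt_sum n _ (fun r' hr' => rowSum_lt (h r' hr')) r hr, fieldAt_sum n _ (h r hr) j hj]

theorem eq_packAll {n X : ℕ} (h : X < (2 ^ (16 * n)) ^ n) : X = packAll n (entryAt n X) :=
  (eq_sum_field n X h).trans (Finset.sum_congr rfl fun r _ => congrArg (· * _)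
    (eq_sum_field n _ (pow_mul 2 16 n ▸ fieldAt_lt _ _ _)))

theorem entry_land (n X Y r j : ℕ) : entryAt n (X &&& Y) r j = entryAt n X r j &&& entryAt n Y r j := by
  rw [entryAt, fieldAt_land, fieldAt_land]; rfl

theorem entry_blocks {n c : ℕ} (hc : c < 2 ^ 16) {r j : ℕ} (hr : r < n) (hj : j < n) :
    entryAt n (blocks (16 * n) (blocks 16 c n) n) r j = c := by
  have h : blocks (16 * n) (blocks 16 c n) n = packAll n (fun _ _ => c) := by
    rw [blocks_eq, blocks_eq]; rfl
  rw [h, entry_packAll (fun _ _ _ _ => hc) hr hj]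

theorem entry_col {n c : ℕ} (hc : c < 2 ^ 16) {r j : ℕ} (hr : r < n) (hj : j < n) :
    entryAt n (blocks (16 * n) c n) r j = if j = 0 then c else 0 := by
  have hn : 0 < n := lt_of_le_of_lt (Nat.zero_le _) hr
  have h : blocks (16 * n) c n = packAll n (fun _ j => if j = 0 then c else 0) := by
    rw [blocks_eq]
    refine Finset.sum_congr rfl fun r _ => ?_
    rw [Finset.sum_eq_single 0]
    · simp
    · intro b _ hb; simp [hb]
    · intro h0; exact absurd (Finset.mem_range.2 hn) h0
  rw [h, entry_packAll (fun _ _ j _ => by split; exacts [hc, Nat.two_pow_pos 16]) hr hj]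

/-- Add the products of the columns from the `i`th one on with the rows. -/
noncomputable def addProd (m : ℕ) (l : List ℕ) : ℕ → ℕ → ℕ → ℕ :=
  List.rec (motive := fun _ => ℕ → ℕ → ℕ → ℕ) (fun _ _ r => r)
    (fun e _ f X i r => force (Nat.add r (Nat.mul (Nat.land (Nat.shiftRight X (Nat.mul 16 i)) m) e)) fun r' =>
      force (Nat.add i 1) fun i' => f X i' r') l

theorem addProd_eq (m X : ℕ) : ∀ (l : List ℕ) (i a : ℕ),
    addProd m l X i a = a + ∑ t ∈ Finset.range l.length, ((X >>> (16 * (i + t))) &&& m) * l.getD t 0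
  | [], i, a => by simp [addProd]
  | e :: l, i, a => by
    have h : addProd m (e :: l) X i a = addProd m l X (i + 1) (a + ((X >>> (16 * i)) &&& m) * e) := by
      simp only [addProd, force_eq]
      rfl
    rw [h, addProd_eq m X l, List.length_cons, Finset.sum_range_succ' (n := l.length)]
    simp only [List.getD_cons_succ, List.getD_cons_zero, add_zero, add_comm 1, add_assoc]
    rw [add_comm (((X >>> (16 * i)) &&& m) * e)]

/-- What reductions and products need: the size, the modulus, the bits of a residue, the marks and a proposal for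
the residues. -/
structure Setup where
  /-- the size -/
  n : ℕ
  /-- the modulus -/
  q : ℕ
  /-- bits of a residue -/
  β : ℕ
  /-- the proposal -/
  res : ℕ → ℕ

/-- The residues, if checked against the quotients; nought otherwise. -/
noncomputable def pickRes (n q β : ℕ) (R Q S : ℕ) : ℕ :=
  bif Nat.beq (Nat.land R (blocks (Nat.mul 16 n) (blocks 16 (Nat.sub (Nat.pow 2 β) 1) n) n)) R &&
      Nat.beq (Nat.land Q (blocks (Nat.mul 16 n) (blocks 16 4095 n) n)) Q &&
      Nat.beq (Nat.add R (Nat.mul q Q)) S &&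
      Nat.blt R (Nat.pow (Nat.pow 2 (Nat.mul 16 n)) n) && Nat.blt Q (Nat.pow (Nat.pow 2 (Nat.mul 16 n)) n)
  then R else 0

namespace Setup

variable (P : Setup)

/-- A checked reduction. -/
noncomputable def reduce (S : ℕ) : ℕ :=
  force (P.res S) fun R => force (Nat.div (Nat.sub S R) P.q) fun Q => pickRes P.n P.q P.β R Q S

/-- Multiply on the right by a matrix given by its packed rows. -/
noncomputable def mul (X : ℕ) (l : List ℕ) : ℕ :=
  P.reduce (addProd (blocks (Nat.mul 16 P.n) (Nat.sub (Nat.pow 2 P.β) 1) P.n) l X 0 0)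

/-- Multiply by the matrices of a word, the first letter first. -/
noncomputable def run (rows : ℕ → List ℕ) (w : List ℕ) : ℕ → ℕ :=
  List.rec (motive := fun _ => ℕ → ℕ) (fun X => X) (fun s _ f X => force (P.mul X (rows s)) fun Y => f Y) w

/-- Packed rows of a matrix of residues. -/
noncomputable def chkRows (l : List ℕ) : Bool :=
  Nat.beq l.length P.n && l.all fun e => Nat.blt e (2 ^ (16 * P.n)) &&
    (List.range P.n).all fun j => Nat.blt (fieldAt 16 e j) (2 ^ P.β)

/-- The identity matrix. -/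
noncomputable def one : ℕ :=
  Nat.rec (motive := fun _ => ℕ → ℕ) (fun _ => 0)
    (fun _ r i => force (r (Nat.add i 1)) fun q => Nat.add (Nat.pow 2 (Nat.mul 16 i)) (Nat.mul (Nat.pow 2 (Nat.mul 16 P.n)) q))
    P.n 0

end Setup

end Cfsg.Agent.Grp.ModMat
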