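import Cfsg.Agent.Lib.Grp.ModMat.Lanes

/-! Packed products are matrix products of residues. -/

set_option autoImplicit false

open Cfsg.Agent.Spor.Cos

namespace Cfsg.Agent.Grp.ModMat

theorem entry_shiftRight {n : ℕ} (X : ℕ) {i : ℕ} (hi : i < n) (r : ℕ) :
    entryAt n (X >>> (16 * i)) r 0 = entryAt n X r i := by
  refine Nat.eq_of_testBit_eq fun t => ?_
  simp only [entryAt, testBit_fieldAt, Nat.testBit_shiftRight]
  by_cases ht : t < 16
  · simp only [ht, decide_true, Bool.true_and, mul_zero, zero_add, show t < 16 * n by omega,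
      show 16 * i + t < 16 * n by omega]
    congr 1
    omega
  · simp [ht]

namespace Setup

variable (P : Setup)

/-- The bounds that keep a product inside its sixteen bits. -/
def Ok : Prop := P.β ≤ 16 ∧ P.n * (2 ^ P.β * 2 ^ P.β) < 2 ^ 16 ∧ 2 ^ P.β + P.q * 4096 ≤ 2 ^ 16

/-- A packed matrix of residues. -/
def Fits (X : ℕ) : Prop := X < (2 ^ (16 * P.n)) ^ P.n ∧ ∀ r < P.n, ∀ j < P.n, entryAt P.n X r j < 2 ^ P.β

/-- The matrix of a packed number. -/
def toMatrix (X : ℕ) : Matrix (Fin P.n) (Fin P.n) (ZMod P.q) := fun r j => (entryAt P.n X r j : ZMod P.q)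

/-- The matrix of packed rows. -/
def ofRows (l : List ℕ) : Matrix (Fin P.n) (Fin P.n) (ZMod P.q) := fun i j => (fieldAt 16 (l.getD i 0) j : ZMod P.q)

variable {P}

theorem res_pow_lt (hok : P.Ok) : 2 ^ P.β - 1 < 2 ^ 16 :=
  lt_of_lt_of_le (Nat.sub_lt (Nat.two_pow_pos _) one_pos) (Nat.pow_le_pow_right (by norm_num) hok.1)

theorem pickRes_spec {n q β R Q S : ℕ} (h : pickRes n q β R Q S ≠ 0) :
    pickRes n q β R Q S = R ∧ R &&& blocks (16 * n) (blocks 16 (2 ^ β - 1) n) n = R ∧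
      Q &&& blocks (16 * n) (blocks 16 4095 n) n = Q ∧ R + q * Q = S ∧ R < (2 ^ (16 * n)) ^ n ∧ Q < (2 ^ (16 * n)) ^ n := by
  unfold pickRes at h ⊢
  cases hc : (Nat.beq (Nat.land R (blocks (Nat.mul 16 n) (blocks 16 (Nat.sub (Nat.pow 2 β) 1) n) n)) R &&
      Nat.beq (Nat.land Q (blocks (Nat.mul 16 n) (blocks 16 4095 n) n)) Q && Nat.beq (Nat.add R (Nat.mul q Q)) S &&
      Nat.blt R (Nat.pow (Nat.pow 2 (Nat.mul 16 n)) n) && Nat.blt Q (Nat.pow (Nat.pow 2 (Nat.mul 16 n)) n)) with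
  | false => rw [hc] at h; exact absurd rfl h
  | true =>
    simp only [Bool.and_eq_true] at hc
    obtain ⟨⟨⟨⟨h1, h2⟩, h3⟩, h4⟩, h5⟩ := hc
    exact ⟨rfl, Nat.eq_of_beq_eq_true h1, Nat.eq_of_beq_eq_true h2, Nat.eq_of_beq_eq_true h3,
      Nat.le_of_ble_eq_true h4, Nat.le_of_ble_eq_true h5⟩

theorem reduce_spec (hok : P.Ok) {S : ℕ} {s : ℕ → ℕ → ℕ} (hS : S = packAll P.n s)
    (hs : ∀ r < P.n, ∀ j < P.n, s r j < 2 ^ 16) (hne : P.reduce S ≠ 0) :
    P.Fits (P.reduce S) ∧ ∀ r < P.n, ∀ j < P.n, (entryAt P.n (P.reduce S) r j : ZMod P.q) = s r j := by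
  have e0 : P.reduce S = pickRes P.n P.q P.β (P.res S) (Nat.div (Nat.sub S (P.res S)) P.q) S := by
    rw [reduce, force_eq, force_eq]
  rw [e0] at hne ⊢
  generalize P.res S = R at hne ⊢
  generalize Nat.div (Nat.sub S R) P.q = Q at hne ⊢
  obtain ⟨e, h1, h2, h3, hR, hQ⟩ := pickRes_spec hne
  rw [e]
  have hr8 : ∀ r < P.n, ∀ j < P.n, entryAt P.n R r j < 2 ^ P.β := fun r hr j hj => by
    rw [← h1, entry_land, entry_blocks (res_pow_lt hok) hr hj]
    exact lt_of_le_of_lt Nat.and_le_right (Nat.sub_lt (Nat.two_pow_pos _) one_pos)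
  have hq : ∀ r < P.n, ∀ j < P.n, entryAt P.n Q r j < 4096 := fun r hr j hj => by
    rw [← h2, entry_land, entry_blocks (by norm_num) hr hj]
    exact Nat.lt_succ_of_le Nat.and_le_right
  have hb : ∀ r < P.n, ∀ j < P.n, entryAt P.n R r j + P.q * entryAt P.n Q r j < 2 ^ 16 := fun r hr j hj => by
    have h := hr8 r hr j hj
    have := Nat.mul_le_mul_left P.q (Nat.le_of_lt (hq r hr j hj))
    have := hok.2.2
    omega
  have e2 : packAll P.n (fun r j => entryAt P.n R r j + P.q * entryAt P.n Q r j) = packAll P.n s := by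
    rw [← hS, ← h3]
    conv_rhs => rw [eq_packAll hR, eq_packAll hQ]
    simp only [packAll, add_mul, Finset.sum_add_distrib, Finset.mul_sum, Finset.sum_mul, mul_assoc]
  refine ⟨⟨hR, hr8⟩, fun r hr j hj => ?_⟩
  have h := congrArg (fun X => entryAt P.n X r j) e2
  simp only [entry_packAll hb hr hj, entry_packAll hs hr hj] at h
  rw [← h, Nat.cast_add, Nat.cast_mul, ZMod.natCast_self, zero_mul, add_zero]

theorem col_eq (hok : P.Ok) {X : ℕ} (hX : P.Fits X) {i : ℕ} (hi : i < P.n) :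
    (X >>> (16 * i)) &&& blocks (16 * P.n) (2 ^ P.β - 1) P.n =
      ∑ r ∈ Finset.range P.n, entryAt P.n X r i * (2 ^ (16 * P.n)) ^ r := by
  have hlt : (X >>> (16 * i)) &&& blocks (16 * P.n) (2 ^ P.β - 1) P.n < (2 ^ (16 * P.n)) ^ P.n := by
    refine lt_of_le_of_lt Nat.and_le_right ?_
    rw [blocks_eq]
    exact sum_field_lt _ _ fun _ _ => lt_of_lt_of_le (res_pow_lt hok) (Nat.pow_le_pow_right (by norm_num) (by omega))
  rw [eq_packAll hlt]
  refine Finset.sum_congr rfl fun r hr => ?_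
  rw [Finset.mem_range] at hr
  rw [Finset.sum_eq_single 0]
  · rw [entry_land, entry_col (res_pow_lt hok) hr (lt_of_le_of_lt (Nat.zero_le _) hi), if_pos rfl,
      entry_shiftRight X hi, pow_zero, mul_one, Nat.and_two_pow_sub_one_eq_mod, Nat.mod_eq_of_lt (hX.2 r hr i hi)]
  · intro j hj h0
    rw [Finset.mem_range] at hj
    rw [entry_land, entry_col (res_pow_lt hok) hr hj, if_neg h0, Nat.and_zero, zero_mul]
  · intro h; exact absurd (Finset.mem_range.2 (lt_of_le_of_lt (Nat.zero_le _) hi)) h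

theorem mul_spec (hok : P.Ok) {X : ℕ} (hX : P.Fits X) {l : List ℕ} (hl : P.chkRows l = true) (hne : P.mul X l ≠ 0) :
    P.Fits (P.mul X l) ∧ P.toMatrix (P.mul X l) = P.toMatrix X * P.ofRows l := by
  simp only [chkRows, Bool.and_eq_true, List.all_eq_true, List.mem_range] at hl
  obtain ⟨hlen, hrows⟩ := hl
  have hlen : l.length = P.n := Nat.eq_of_beq_eq_true hlen
  have hd : ∀ t < P.n, l.getD t 0 < 2 ^ (16 * P.n) ∧ ∀ j < P.n, fieldAt 16 (l.getD t 0) j < 2 ^ P.β := fun t ht => by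
    rw [List.getD_eq_getElem _ _ (hlen.symm ▸ ht)]
    obtain ⟨h1, h2⟩ := hrows _ (List.getElem_mem (hlen.symm ▸ ht))
    exact ⟨Nat.le_of_ble_eq_true h1, fun j hj => Nat.le_of_ble_eq_true (h2 j hj)⟩
  set s : ℕ → ℕ → ℕ := fun r j => ∑ t ∈ Finset.range P.n, entryAt P.n X r t * fieldAt 16 (l.getD t 0) j with hs
  have hbound : ∀ r < P.n, ∀ j < P.n, s r j < 2 ^ 16 := fun r hr j hj => by
    refine lt_of_le_of_lt (Finset.sum_le_sum (g := fun _ => 2 ^ P.β * 2 ^ P.β) fun t ht => ?_) ?_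
    · rw [Finset.mem_range] at ht
      exact Nat.mul_le_mul (le_of_lt (hX.2 r hr t ht)) (le_of_lt ((hd t ht).2 j hj))
    · rw [Finset.sum_const, Finset.card_range, smul_eq_mul]
      exact hok.2.1
  have hS : addProd (blocks (16 * P.n) (2 ^ P.β - 1) P.n) l X 0 0 = packAll P.n s := by
    rw [addProd_eq, zero_add, hlen]
    have e : ∀ t ∈ Finset.range P.n, ((X >>> (16 * (0 + t))) &&& blocks (16 * P.n) (2 ^ P.β - 1) P.n) * l.getD t 0 =
        ∑ r ∈ Finset.range P.n, ∑ j ∈ Finset.range P.n,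
          entryAt P.n X r t * fieldAt 16 (l.getD t 0) j * (2 ^ 16) ^ j * (2 ^ (16 * P.n)) ^ r := fun t ht => by
      rw [Finset.mem_range] at ht
      rw [zero_add, col_eq hok hX ht, Finset.sum_mul]
      refine Finset.sum_congr rfl fun r _ => ?_
      conv_lhs => rw [eq_sum_field (b := 16) P.n (l.getD t 0) (pow_mul 2 16 P.n ▸ (hd t ht).1)]
      rw [Finset.mul_sum]
      exact Finset.sum_congr rfl fun j _ => by ring
    rw [Finset.sum_congr rfl e, Finset.sum_comm]
    refine Finset.sum_congr rfl fun r _ => ?_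
    rw [Finset.sum_comm, Finset.sum_mul]
    refine Finset.sum_congr rfl fun j _ => ?_
    rw [hs]
    simp only [Finset.sum_mul]
  have e0 : P.mul X l = P.reduce (addProd (blocks (16 * P.n) (2 ^ P.β - 1) P.n) l X 0 0) := rfl
  rw [e0] at hne ⊢
  obtain ⟨h1, h2⟩ := reduce_spec hok hS hbound hne
  refine ⟨h1, Matrix.ext fun r j => ?_⟩
  rw [Matrix.mul_apply]
  show (entryAt P.n _ r j : ZMod P.q) = _
  rw [h2 r r.2 j j.2, hs]
  simp only [Nat.cast_sum, Nat.cast_mul]
  rw [Finset.sum_range]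
  rfl

theorem one_eq : P.one = packAll P.n (fun r j => if r = j then 1 else 0) := by
  have h : ∀ k i, i + k = P.n → Nat.rec (motive := fun _ => ℕ → ℕ) (fun _ => 0)
      (fun _ r i => force (r (Nat.add i 1)) fun q =>
        Nat.add (Nat.pow 2 (Nat.mul 16 i)) (Nat.mul (Nat.pow 2 (Nat.mul 16 P.n)) q)) k i =
      ∑ r ∈ Finset.range k, (2 ^ 16) ^ (i + r) * (2 ^ (16 * P.n)) ^ r := by
    intro k
    induction k with
    | zero => intro i _; simp
    | succ k ih =>
      intro i hi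
      simp only [force_eq]
      rw [show Nat.add i 1 = i + 1 from rfl]
      have := ih (i + 1) (by omega)
      simp only [force_eq] at this
      rw [this, Finset.sum_range_succ', add_zero, pow_zero, mul_one, ← pow_mul]
      show 2 ^ (16 * i) + 2 ^ (16 * P.n) * _ = _
      rw [add_comm, Finset.mul_sum]
      refine congrArg (· + _) (Finset.sum_congr rfl fun r _ => ?_)
      rw [show i + 1 + r = i + (r + 1) by omega, pow_succ (2 ^ (16 * P.n)) r, ← pow_mul]
      ring
  refine (h P.n 0 (zero_add _)).trans (Finset.sum_congr rfl fun r hr => ?_)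
  rw [Finset.sum_eq_single_of_mem r hr fun b _ hb => by simp [Ne.symm hb]]
  simp

theorem fits_one (hok : P.Ok) (hβ : 0 < P.β) : P.Fits P.one ∧ P.toMatrix P.one = 1 := by
  have hb : ∀ r < P.n, ∀ j < P.n, (if r = j then 1 else 0 : ℕ) < 2 ^ 16 := fun r _ j _ => by split <;> norm_num
  refine ⟨⟨?_, fun r hr j hj => ?_⟩, Matrix.ext fun r j => ?_⟩
  · rw [one_eq]
    exact sum_field_lt _ _ fun r hr => rowSum_lt (hb r hr)
  · rw [one_eq, entry_packAll hb hr hj]
    split
    · exact Nat.one_lt_two_pow hβ.ne'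
    · exact Nat.two_pow_pos _
  · rw [toMatrix, one_eq, entry_packAll hb r.2 j.2, Matrix.one_apply]
    by_cases h : r = j
    · subst h; simp
    · rw [if_neg (fun e => h (Fin.ext e)), if_neg h, Nat.cast_zero]

theorem mul_zero' (hq : P.q ≠ 0) (l : List ℕ) : P.mul 0 l = 0 := by
  have h0 : ∀ m, addProd m l 0 0 0 = 0 := fun m => by
    rw [addProd_eq]
    simp
  show P.reduce (addProd _ l 0 0 0) = 0
  rw [h0, reduce, force_eq, force_eq]
  by_contra hne
  obtain ⟨e, -, -, h3, -, -⟩ := pickRes_spec hne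
  rw [e] at hne
  exact hne (Nat.add_eq_zero_iff.1 h3).1

theorem run_cons (rows : ℕ → List ℕ) (s : ℕ) (w : List ℕ) (X : ℕ) :
    P.run rows (s :: w) X = P.run rows w (P.mul X (rows s)) := by
  simp only [run, force_eq]

theorem run_zero (hq : P.q ≠ 0) (rows : ℕ → List ℕ) : ∀ w, P.run rows w 0 = 0
  | [] => rfl
  | s :: w => by rw [run_cons, mul_zero' hq, run_zero hq rows w]

/-- A word that returns to the identity multiplies to one. -/
theorem run_spec (hok : P.Ok) (hq : P.q ≠ 0) {rows : ℕ → List ℕ} {k : ℕ} (hrows : ∀ s < k, P.chkRows (rows s) = true) :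
    ∀ (w : List ℕ), (∀ s ∈ w, s < k) → ∀ X, P.Fits X → P.run rows w X ≠ 0 →
      P.toMatrix (P.run rows w X) = P.toMatrix X * (w.map fun s => P.ofRows (rows s)).prod
  | [], _, X, _, _ => by simp [run]
  | s :: w, hw, X, hX, hne => by
    rw [run_cons] at hne ⊢
    have h0 : P.mul X (rows s) ≠ 0 := fun e => hne (by rw [e, run_zero hq])
    obtain ⟨hS, hm⟩ := mul_spec hok hX (hrows s (hw s List.mem_cons_self)) h0
    rw [run_spec hok hq hrows w (fun t ht => hw t (List.mem_cons_of_mem _ ht)) _ hS hne, hm, List.map_cons,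
      List.prod_cons, Matrix.mul_assoc]

theorem prod_eq_one (hok : P.Ok) (hβ : 0 < P.β) (hq : P.q ≠ 0) (hn : 0 < P.n) {rows : ℕ → List ℕ} {k : ℕ}
    (hrows : ∀ s < k, P.chkRows (rows s) = true) {w : List ℕ} (hw : ∀ s ∈ w, s < k)
    (h : Nat.beq (P.run rows w P.one) P.one = true) : (w.map fun s => P.ofRows (rows s)).prod = 1 := by
  obtain ⟨hf, hm⟩ := fits_one hok hβ
  have e := Nat.eq_of_beq_eq_true h
  have hne : P.one ≠ 0 := fun h0 => by
    have h1 := entry_packAll (n := P.n) (f := fun r j => if r = j then 1 else 0)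
      (fun r _ j _ => by split <;> norm_num) hn hn
    rw [← one_eq, h0] at h1
    simp [entryAt, fieldAt] at h1
  have := run_spec hok hq hrows w hw P.one hf (by rw [e]; exact hne)
  rw [e, hm, one_mul] at this
  exact this.symm

end Setup

end Cfsg.Agent.Grp.ModMat
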